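import Groth.Prelude.Def_CohPull
import Groth.Agent.SiteCoh.HofAdj
import Groth.Agent.FlasqueAcyclic.Compare
import Groth.Agent.CohFinite.AffinePush

/-! # The edge map `H^p(Y, f_* G) → H^p(X, G)` -/

set_option backward.isDefEq.respectTransparency.types false
set_option autoImplicit false

noncomputable section

universe u

open CategoryTheory CategoryTheory.Limits CategoryTheory.Abelian AlgebraicGeometry TopologicalSpace Opposite

namespace Groth.Agent.PushEdge

variable {X Y : TopCat.{u}} (f : X ⟶ Y)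

lemma precomp_oneTo (G : CohTop.Ab X) (φ : (CohPull.inv f).obj (CohTop.const Y (ULift.{u} ℤ)) ⟶ G) :
    (CohPull.adjZ X).homEquiv _ _ (CohPull.oneTo f ≫ φ) =
      (CohPull.adjZ Y).homEquiv _ _ ((CohPull.invPushAdj f).homEquiv _ _ φ) := by
  rw [Adjunction.homEquiv_naturality_right, CohPull.oneTo, Equiv.apply_symm_apply,
    Adjunction.homEquiv_unit (adj := CohPull.invPushAdj f),
    Adjunction.homEquiv_unit (adj := CohPull.adjZ Y), Functor.map_comp]
  simp only [CohPull.oneSec, Adjunction.homEquiv_unit, Functor.map_id, Category.comp_id]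
  rfl

lemma isIso_oneTo : IsIso (CohPull.oneTo f) := by
  have hb : ∀ G : CohTop.Ab X, Function.Bijective (fun φ : (CohPull.inv f).obj
      (CohTop.const Y (ULift.{u} ℤ)) ⟶ G => CohPull.oneTo f ≫ φ) := by
    intro G
    have h := (((CohPull.invPushAdj f).homEquiv (CohTop.const Y (ULift.{u} ℤ)) G).trans
      ((CohPull.adjZ Y).homEquiv (AddCommGrpCat.of (ULift.{u} ℤ)) ((CohTop.push f).obj G))).bijective
    refine ((CohPull.adjZ X).homEquiv _ _).bijective.of_comp_iff' _ |>.1 ⟨fun a b hab => ?_, fun z => ?_⟩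
    · exact h.1 ((precomp_oneTo f G a).symm.trans (hab.trans (precomp_oneTo f G b)))
    · obtain ⟨φ, hφ⟩ := h.2 z
      exact ⟨φ, (precomp_oneTo f G φ).trans hφ⟩
  obtain ⟨ψ, hψ⟩ := (hb _).2 (𝟙 _)
  exact ⟨ψ, hψ, (hb _).1 (by
    show CohPull.oneTo f ≫ _ ≫ CohPull.oneTo f = CohPull.oneTo f ≫ 𝟙 _
    rw [← Category.assoc, show CohPull.oneTo f ≫ ψ = 𝟙 _ from hψ, Category.id_comp, Category.comp_id])⟩

variable {S T : Scheme.{u}} (g : S ⟶ T)

lemma theta_counit (G : S.Modules) :
    CohPull.theta g ((Scheme.Modules.pushforward g).obj G) ≫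
        (SheafOfModules.toSheaf S.ringCatSheaf).map
          ((Scheme.Modules.pullbackPushforwardAdjunction g).counit.app G) =
      (CohPull.invPushAdj g.base).counit.app (Coh.toAb G) := by
  rw [CohPull.theta, ← Adjunction.homEquiv_naturality_right_symm, Equiv.symm_apply_eq,
    Adjunction.homEquiv_unit]
  have h := congrArg (fun t => (SheafOfModules.toSheaf T.ringCatSheaf).map t)
    ((Scheme.Modules.pullbackPushforwardAdjunction g).right_triangle_components G)
  have h' := ((SheafOfModules.toSheaf T.ringCatSheaf).map_comp _ _).symm.trans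
    (h.trans ((SheafOfModules.toSheaf T.ringCatSheaf).map_id _))
  exact h'.trans ((CohPull.invPushAdj g.base).right_triangle_components (Coh.toAb G)).symm

lemma pushEdge_eq (G : S.Modules) (p : ℕ) (x : Coh.HH T ((Scheme.Modules.pushforward g).obj G) p) :
    CohPull.pushEdge g G p x =
      SiteCoh.adjMap (CohPull.invPushAdj g.base) (@asIso _ _ _ _ (CohPull.oneTo g.base)
        (isIso_oneTo g.base)) (Coh.toAb G) p x := by
  rw [SiteCoh.adjMap, ← theta_counit g G]
  refine Eq.trans ?_ (congrArg (fun e => Ext.comp _ e (add_zero p)) (Ext.mk₀_comp_mk₀ _ _))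
  exact Ext.comp_assoc_of_second_deg_zero _ _ _ _

theorem bijective_pushEdge [HasInjectiveResolutions S.Modules] (G : S.Modules)
    (hG : ∀ q : ℕ, 0 < q → IsZero ((Coh.Rpush g q).obj G)) (p : ℕ) :
    Function.Bijective (CohPull.pushEdge g G p) := by
  haveI : PreservesFiniteLimits (CohTop.push g.base) :=
    inferInstanceAs (PreservesFiniteLimits (QCohBase.pushSh g.base))
  have hM : ∀ q, IsZero (((CohTop.push g.base).rightDerived (q + 1)).obj (Coh.toAb G)) := fun q =>
    ((SheafOfModules.toSheaf T.ringCatSheaf).map_isZero (hG (q + 1) q.succ_pos)).of_iso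
      (FlasqueAcyclic.nonempty_toAb_Rpush_iso g G (q + 1)).some.symm
  have h := SiteCoh.adjMap_bijective (CohPull.invPushAdj g.base)
    (@asIso _ _ _ _ (CohPull.oneTo g.base) (isIso_oneTo g.base)) p (Coh.toAb G) hM
  exact ⟨fun a b hab => h.1 ((pushEdge_eq g G p a).symm.trans (hab.trans (pushEdge_eq g G p b))),
    fun z => let ⟨x, hx⟩ := h.2 z; ⟨x, (pushEdge_eq g G p x).trans hx⟩⟩

end Groth.Agent.PushEdge
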